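import Cfsg.Agent.Lib.ThreeTransp.TypeTwentyFour.Order

/-!
# The cover of Fi23 by the centralizer of a member

The centralizer of a member `d` maps onto Fi23 with kernel `{1, d}`; the sign splits the cover, so
commutation, normalizers and centralizers of subgroups of odd order are read in Fi23.
-/

set_option autoImplicit false
set_option linter.unusedSectionVars false
set_option linter.style.haveILetI false

namespace CfsgLib.ThreeTransp.TypeTwentyFour.Locals

open CfsgLib.Sporadic FischerTransitivity Indep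
open Cfsg.Spor (Fi23)

variable {G : Type*} [Group G]

/-- `p` is, on the centralizer of `d`, the cover of Fi23, and `ε` is the sign. -/
structure Cover (D : Set G) (ε : G →* ℤˣ) (d : G) (p : G → Fi23) : Prop where
  grp : Cfsg.IsThreeTranspositionGroup D
  mem : d ∈ D
  sgn : ∀ s ∈ D, ε s = -1
  mul : ∀ g h : G, Commute g d → Commute h d → p (g * h) = p g * p h
  surj : ∀ q : Fi23, ∃ g : G, Commute g d ∧ p g = q
  ker : ∀ g : G, Commute g d → p g = 1 → g = 1 ∨ g = d
  self : p d = 1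
  nb : ∀ s ∈ Nb D d, p s ∈ FiTransfer23.classTr
  lift : ∀ c ∈ FiTransfer23.classTr, ∃ s ∈ Nb D d, p s = c

/-- The covers exist. -/
theorem exists_cover [Finite G] {D : Set G} (T : Data D) {ε : G →* ℤˣ}
    (hε : ∀ s ∈ D, ε s = -1) {d : G} (hd : d ∈ D) : ∃ p : G → Fi23, Cover D ε d p := by
  classical
  obtain ⟨e, he⟩ := T.model d hd
  have hH := centralizer_eq T.toSetting hd
  have hin : ∀ {g : G}, Commute g d → g ∈ NH D d := fun {g} h => by
    show g ∈ Subgroup.closure (Nb D d)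
    rw [hH]; exact Subgroup.mem_centralizer_singleton_iff.2 h.eq
  have hout : ∀ {g : G}, g ∈ NH D d → Commute g d := fun {g} h => by
    have h' : g ∈ Subgroup.centralizer ({d} : Set G) := hH ▸ h
    exact Subgroup.mem_centralizer_singleton_iff.1 h'
  obtain ⟨p, hp⟩ : ∃ p : G → Fi23, ∀ (g : G) (hg : g ∈ NH D d),
      p g = e (QuotientGroup.mk (⟨g, hg⟩ : ↥(NH D d))) :=
    ⟨fun g => if h : g ∈ NH D d then e (QuotientGroup.mk (⟨g, h⟩ : ↥(NH D d))) else 1,
      fun g hg => dif_pos hg⟩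
  obtain ⟨a, ha⟩ := exists_nb T.toSetting hd
  refine ⟨p, T.good.grp, hd, hε, fun g h hg hh => ?_, fun q => ?_, fun g hg h1 => ?_, ?_,
    fun s hs => ?_, fun c hc => ?_⟩
  · rw [hp g (hin hg), hp h (hin hh), hp (g * h) (mul_mem (hin hg) (hin hh)), ← map_mul]
    rfl
  · obtain ⟨w, hw⟩ := QuotientGroup.mk_surjective (e.symm q)
    exact ⟨w, hout w.2, by rw [hp _ w.2, Subtype.coe_eta, hw, e.apply_symm_apply]⟩
  · rw [hp g (hin hg), MulEquiv.map_eq_one_iff, QuotientGroup.eq_one_iff, Subgroup.mem_center_iff]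
      at h1
    exact cen_mem T.toSetting hd ha hg fun u hu =>
      (congrArg Subtype.val (h1 ⟨u, Subgroup.subset_closure hu⟩)).symm
  · rw [hp d (mem_closure T.toSetting hd), MulEquiv.map_eq_one_iff, QuotientGroup.eq_one_iff,
      Subgroup.mem_center_iff]
    exact fun k => Subtype.ext (Good.commute_closure k.2).eq
  · rw [hp s (Subgroup.subset_closure hs), ← he]
    exact ⟨_, nimg_mem hs, rfl⟩
  · rw [← he] at hc
    obtain ⟨q, hq, rfl⟩ := hc
    obtain ⟨s, hs, rfl⟩ := exists_nimg hq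
    exact ⟨s, hs, hp s (Subgroup.subset_closure hs)⟩

namespace Cover

variable {D : Set G} {ε : G →* ℤˣ} {d : G} {p : G → Fi23} (C : Cover D ε d p)
include C

theorem eps_self : ε d = -1 := C.sgn d C.mem

theorem ne_one : d ≠ 1 := fun h => by
  have := C.eps_self
  rw [h, map_one] at this
  exact absurd this (by decide)

theorem one : p 1 = 1 := by
  have := C.mul 1 1 (Commute.one_left d) (Commute.one_left d)
  rw [one_mul] at this
  exact mul_eq_left.1 this.symm

theorem inv {g : G} (hg : Commute g d) : p g⁻¹ = (p g)⁻¹ := by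
  refine eq_inv_of_mul_eq_one_left ?_
  rw [← C.mul _ _ hg.inv_left hg, inv_mul_cancel, C.one]

theorem conj {g h : G} (hg : Commute g d) (hh : Commute h d) :
    p (g * h * g⁻¹) = p g * p h * (p g)⁻¹ := by
  rw [C.mul _ _ (hg.mul_left hh) hg.inv_left, C.mul _ _ hg hh, C.inv hg]

/-- Elements of equal sign and image are equal. -/
theorem ext {g h : G} (hg : Commute g d) (hh : Commute h d) (he : ε g = ε h) (hp : p g = p h) :
    g = h := by
  have h1 : p (g⁻¹ * h) = 1 := by rw [C.mul _ _ hg.inv_left hh, C.inv hg, hp, inv_mul_cancel]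
  rcases C.ker _ (hg.inv_left.mul_left hh) h1 with e | e
  · exact inv_mul_eq_one.1 e
  · have := congrArg ε e
    rw [map_mul, map_inv, he, inv_mul_cancel, C.eps_self] at this
    exact absurd this (by decide)

/-- Commutation is read in Fi23. -/
theorem commute_iff {g h : G} (hg : Commute g d) (hh : Commute h d) :
    Commute (p g) (p h) ↔ Commute g h := by
  refine ⟨fun e => ?_, fun e => ?_⟩
  · refine C.ext (hg.mul_left hh) (hh.mul_left hg) (by rw [map_mul, map_mul, mul_comm]) ?_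
    rw [C.mul _ _ hg hh, C.mul _ _ hh hg, e.eq]
  · show p g * p h = p h * p g
    rw [← C.mul _ _ hg hh, ← C.mul _ _ hh hg, e.eq]

theorem nb_comm {s : G} (hs : s ∈ Nb D d) : Commute s d := hs.2.2.symm

theorem inj_nb {s t : G} (hs : s ∈ Nb D d) (ht : t ∈ Nb D d) (h : p s = p t) : s = t :=
  C.ext (C.nb_comm hs) (C.nb_comm ht) (by rw [C.sgn s hs.1, C.sgn t ht.1]) h

/-- The even lift. -/
theorem even_lift (q : Fi23) : ∃ g : G, Commute g d ∧ ε g = 1 ∧ p g = q := by
  obtain ⟨g, hg, hp⟩ := C.surj q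
  rcases Int.units_eq_one_or (ε g) with e | e
  · exact ⟨g, hg, e, hp⟩
  · exact ⟨g * d, hg.mul_left (Commute.refl d), by rw [map_mul, e, C.eps_self]; decide,
      by rw [C.mul _ _ hg (Commute.refl d), C.self, mul_one, hp]⟩

/-- An element with given image is the even lift or that times the member. -/
theorem decomp {g : G} (hg : Commute g d) :
    ∃ g₀ : G, Commute g₀ d ∧ ε g₀ = 1 ∧ p g₀ = p g ∧ (g = g₀ ∨ g = g₀ * d) := by
  obtain ⟨g₀, h0, e0, hp⟩ := C.even_lift (p g)
  refine ⟨g₀, h0, e0, hp, ?_⟩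
  rcases Int.units_eq_one_or (ε g) with e | e
  · exact Or.inl (C.ext hg h0 (e.trans e0.symm) hp.symm)
  · refine Or.inr (C.ext hg (h0.mul_left (Commute.refl d)) ?_ ?_)
    · rw [map_mul, e, e0, C.eps_self, one_mul]
    · rw [C.mul _ _ h0 (Commute.refl d), C.self, mul_one, hp]

/-- The cover as a homomorphism. -/
noncomputable def hom : ↥(Subgroup.centralizer ({d} : Set G)) →* Fi23 where
  toFun g := p g
  map_one' := C.one
  map_mul' g h := C.mul g h (Subgroup.mem_centralizer_singleton_iff.1 g.2)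
    (Subgroup.mem_centralizer_singleton_iff.1 h.2)

omit C

end Cover

/-- The even part over a subgroup of Fi23. -/
noncomputable def up {D : Set G} {ε : G →* ℤˣ} {d : G} {p : G → Fi23} (C : Cover D ε d p)
    (F : Subgroup Fi23) : Subgroup G :=
  (F.comap C.hom).map (Subgroup.centralizer ({d} : Set G)).subtype ⊓ ε.ker

/-- The image of a subgroup. -/
noncomputable def down {D : Set G} {ε : G →* ℤˣ} {d : G} {p : G → Fi23} (C : Cover D ε d p)
    (X : Subgroup G) : Subgroup Fi23 :=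
  (X.subgroupOf (Subgroup.centralizer ({d} : Set G))).map C.hom

namespace Cover

variable {D : Set G} {ε : G →* ℤˣ} {d : G} {p : G → Fi23} (C : Cover D ε d p)

theorem mem_up {F : Subgroup Fi23} {g : G} :
    g ∈ up C F ↔ Commute g d ∧ ε g = 1 ∧ p g ∈ F := by
  simp only [up, Subgroup.mem_inf, Subgroup.mem_map, Subgroup.mem_comap, MonoidHom.mem_ker,
    Subgroup.coe_subtype]
  constructor
  · rintro ⟨⟨w, hw, rfl⟩, he⟩
    exact ⟨Subgroup.mem_centralizer_singleton_iff.1 w.2, he, hw⟩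
  · rintro ⟨hg, he, hF⟩
    exact ⟨⟨⟨g, Subgroup.mem_centralizer_singleton_iff.2 hg.eq⟩, hF, rfl⟩, he⟩

theorem card_up (F : Subgroup Fi23) : Nat.card ↥(up C F) = Nat.card ↥F := by
  refine Nat.card_congr (Equiv.ofBijective (fun g => ⟨p g.1, (C.mem_up.1 g.2).2.2⟩) ⟨?_, ?_⟩)
  · intro g h e
    obtain ⟨hg, eg, -⟩ := C.mem_up.1 g.2
    obtain ⟨hh, eh, -⟩ := C.mem_up.1 h.2
    exact Subtype.ext (C.ext hg hh (eg.trans eh.symm) (congrArg Subtype.val e))
  · rintro ⟨q, hq⟩
    obtain ⟨g, hg, he, hp⟩ := C.even_lift q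
    exact ⟨⟨g, C.mem_up.2 ⟨hg, he, hp ▸ hq⟩⟩, Subtype.ext hp⟩

theorem mem_down {X : Subgroup G} (hX : ∀ x ∈ X, Commute x d) {q : Fi23} :
    q ∈ down C X ↔ ∃ x ∈ X, p x = q := by
  simp only [down, Subgroup.mem_map, Subgroup.mem_subgroupOf]
  constructor
  · rintro ⟨w, hw, rfl⟩; exact ⟨w, hw, rfl⟩
  · rintro ⟨x, hx, rfl⟩
    exact ⟨⟨x, Subgroup.mem_centralizer_singleton_iff.2 (hX x hx).eq⟩, hx, rfl⟩

variable {X : Subgroup G} (hX : ∀ x ∈ X, Commute x d ∧ ε x = 1)
include hX

theorem mem_down_iff {g : G} (hg : Commute g d) (he : ε g = 1) : p g ∈ down C X ↔ g ∈ X := by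
  rw [C.mem_down fun x hx => (hX x hx).1]
  refine ⟨?_, fun h => ⟨g, h, rfl⟩⟩
  rintro ⟨x, hx, e⟩
  exact (C.ext (hX x hx).1 hg ((hX x hx).2.trans he.symm) e) ▸ hx

theorem card_down : Nat.card ↥(down C X) = Nat.card ↥X := by
  refine (Nat.card_congr (Equiv.ofBijective
    (fun x : ↥X => (⟨p x.1, (C.mem_down_iff hX (hX _ x.2).1 (hX _ x.2).2).2 x.2⟩ : ↥(down C X)))
    ⟨?_, ?_⟩)).symm
  · intro x y e
    exact Subtype.ext (C.ext (hX _ x.2).1 (hX _ y.2).1 ((hX _ x.2).2.trans (hX _ y.2).2.symm)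
      (congrArg Subtype.val e))
  · rintro ⟨q, hq⟩
    obtain ⟨x, hx, e⟩ := (C.mem_down fun x hx => (hX x hx).1).1 hq
    exact ⟨⟨x, hx⟩, Subtype.ext e⟩

theorem centralizer_iff {g : G} (hg : Commute g d) :
    p g ∈ Subgroup.centralizer (down C X : Set Fi23) ↔ g ∈ Subgroup.centralizer (X : Set G) := by
  simp only [Subgroup.mem_centralizer_iff, SetLike.mem_coe]
  constructor
  · intro h x hx
    exact ((C.commute_iff (hX x hx).1 hg).1
      (h _ ((C.mem_down fun x hx => (hX x hx).1).2 ⟨x, hx, rfl⟩))).eq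
  · intro h q hq
    obtain ⟨x, hx, rfl⟩ := (C.mem_down fun x hx => (hX x hx).1).1 hq
    exact ((C.commute_iff (hX x hx).1 hg).2 (h x hx)).eq

theorem normalizer_iff {g : G} (hg : Commute g d) :
    p g ∈ Subgroup.normalizer (down C X : Set Fi23) ↔ g ∈ Subgroup.normalizer (X : Set G) := by
  simp only [Subgroup.mem_normalizer_iff, SetLike.mem_coe]
  have hε : ∀ w : G, ε (g * w * g⁻¹) = ε w := fun w => by
    rw [map_mul, map_mul, map_inv, mul_comm (ε g), mul_inv_cancel_right]
  constructor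
  · intro h w
    constructor
    · intro hw
      obtain ⟨h1, h2⟩ := hX w hw
      rw [← C.mem_down_iff hX ((hg.mul_left h1).mul_left hg.inv_left) ((hε w).trans h2),
        C.conj hg h1, ← h]
      exact (C.mem_down_iff hX h1 h2).2 hw
    · intro hw
      obtain ⟨h1, h2⟩ := hX _ hw
      have h1' : Commute w d := by
        have := (hg.inv_left.mul_left h1).mul_left hg
        rwa [show g⁻¹ * (g * w * g⁻¹) * g = w by group] at this
      rw [← C.mem_down_iff hX h1' ((hε w).symm.trans h2), h, ← C.conj hg h1']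
      exact (C.mem_down_iff hX h1 h2).2 hw
  · intro h q
    obtain ⟨w, hw, he, rfl⟩ := C.even_lift q
    rw [← C.conj hg hw, C.mem_down_iff hX hw he,
      C.mem_down_iff hX ((hg.mul_left hw).mul_left hg.inv_left) ((hε w).trans he)]
    exact h w

/-- The members commuting with a subgroup. -/
theorem class_iff {c : Fi23} :
    c ∈ FiTransfer23.classTr ∧ c ∈ Subgroup.centralizer (down C X : Set Fi23) ↔
      ∃ s ∈ Nb D d, s ∈ Subgroup.centralizer (X : Set G) ∧ p s = c := by
  constructor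
  · rintro ⟨h1, h2⟩
    obtain ⟨s, hs, rfl⟩ := C.lift c h1
    exact ⟨s, hs, (C.centralizer_iff hX (C.nb_comm hs)).1 h2, rfl⟩
  · rintro ⟨s, hs, h2, rfl⟩
    exact ⟨C.nb s hs, (C.centralizer_iff hX (C.nb_comm hs)).2 h2⟩

end Cover

/-- Elements of odd order are even. -/
theorem even_of_odd [Finite G] (ε : G →* ℤˣ) {X : Subgroup G} (hX : Odd (Nat.card X)) {x : G}
    (hx : x ∈ X) : ε x = 1 := by
  have h1 : x ^ Nat.card X = 1 := by
    exact (SubmonoidClass.coe_pow (⟨x, hx⟩ : ↥X) (Nat.card X)).symm.trans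
      (congrArg Subtype.val pow_card_eq_one')
  rcases Int.units_eq_one_or (ε x) with e | e
  · exact e
  · have := congrArg ε h1
    rw [map_pow, e, hX.neg_one_pow, map_one] at this
    exact absurd this (by decide)

/-- A prime power subgroup fixes a member when the prime does not divide their number. -/
theorem exists_fixed [Finite G] {D : Set G} (hG : Cfsg.IsThreeTranspositionGroup D) {q : ℕ}
    (hq : q.Prime) (hdvd : ¬ q ∣ D.ncard) {X : Subgroup G} (hX : IsPGroup q ↥X) :
    ∃ d ∈ D, ∀ x ∈ X, Commute x d := by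
  haveI : Fact q.Prime := ⟨hq⟩
  letI : MulAction ↥X ↥D :=
    { smul := fun x s => ⟨(x : G) * s * (x : G)⁻¹, hG.2.1 x s s.2⟩
      one_smul := fun s => Subtype.ext (show (1 : G) * s * (1 : G)⁻¹ = s by group)
      mul_smul := fun x y s => Subtype.ext (show ((x : G) * y) * s * ((x : G) * y)⁻¹
        = (x : G) * ((y : G) * s * (y : G)⁻¹) * (x : G)⁻¹ by group) }
  obtain ⟨s, hs⟩ := hX.nonempty_fixed_point_of_prime_not_dvd_card ↥D
    (by rwa [Nat.card_coe_set_eq])
  refine ⟨s, s.2, fun x hx => ?_⟩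
  have := congrArg Subtype.val (hs ⟨x, hx⟩)
  exact mul_inv_eq_iff_eq_mul.1 this

end CfsgLib.ThreeTransp.TypeTwentyFour.Locals
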