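import Cfsg.Prelude.Def_FischerSpaces
import Cfsg.Agent.Lib.Orth.Bridge
import Mathlib

/-!
# No element of order 13 preserves a five-dimensional form over the field with three elements
-/

set_option autoImplicit false
set_option linter.unusedSectionVars false
set_option linter.style.haveILetI false

namespace CfsgLib.ThreeTransp.TypeTwentyFour.Locals

open QuadraticMap Module

local notation "V" => Fin 5 → ZMod 3

/-- A permutation of prime order without fixed points. -/
theorem dvd_card_of_free {α : Type*} [Fintype α] [DecidableEq α] {q : ℕ} (hq : q.Prime)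
    (σ : Equiv.Perm α) (h : σ ^ q = 1) (hfree : ∀ x, σ x ≠ x) : q ∣ Fintype.card α := by
  haveI : Fact q.Prime := ⟨hq⟩
  have h1 := Equiv.Perm.card_compl_support_modEq (p := q) (n := 1) (σ := σ) (by rwa [pow_one])
  rw [show σ.supportᶜ = ∅ from Finset.eq_empty_of_forall_notMem fun x hx =>
    hfree x (Equiv.Perm.notMem_support.1 (Finset.mem_compl.1 hx)), Finset.card_empty] at h1
  exact Nat.modEq_zero_iff_dvd.1 h1.symm

theorem neg_self_three : ∀ z : ZMod 3, -z = z → z = 0 := by decide

theorem parallelogram_three : ∀ c z : ZMod 3, c = c + c + z → c = c + c + -z → c = 0 := by decide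

theorem no_thirteen (Q : QuadraticForm (ZMod 3) V) (hQ : (polarBilin Q).Nondegenerate)
    (f : V ≃ₗ[ZMod 3] V) (hf : ∀ v, Q (f v) = Q v) (h13 : f ^ 13 = 1) : f = 1 := by
  classical
  set W : Submodule (ZMod 3) V := LinearMap.range ((f : V →ₗ[ZMod 3] V) - LinearMap.id) with hW
  have hmem : ∀ w, w ∈ W ↔ ∃ v, f v - v = w := fun w => by
    simp [hW, LinearMap.mem_range]
  have hpow : ∀ v, (f ^ 13) v = v := fun v => by rw [h13]; rfl
  have hfix : ∀ w ∈ W, f w = w → w = 0 := by
    intro w hw hfw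
    obtain ⟨v, hv⟩ := (hmem w).1 hw
    have hn : ∀ n : ℕ, (f ^ n) v = v + n • w := fun n => by
      induction n with
      | zero => simp
      | succ n ih =>
        rw [pow_succ', LinearEquiv.mul_apply, ih, map_add, map_nsmul, hfw, succ_nsmul,
          ← eq_add_of_sub_eq hv |>.symm]
        abel
    have h := (hn 13).symm.trans (hpow v)
    rw [add_eq_left, ← Nat.cast_smul_eq_nsmul (ZMod 3) 13 w,
      show ((13 : ℕ) : ZMod 3) = 1 by decide, one_smul] at h
    exact h
  have hinv : ∀ w ∈ W, f w ∈ W := by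
    intro w hw
    obtain ⟨v, hv⟩ := (hmem w).1 hw
    exact (hmem _).2 ⟨f v, by rw [← hv, map_sub]⟩
  have hback : ∀ w, f w ∈ W → w ∈ W := by
    intro w hw
    have h12 : ∀ n : ℕ, (f ^ n) (f w) ∈ W := fun n => by
      induction n with
      | zero => simpa using hw
      | succ n ih => rw [pow_succ', LinearEquiv.mul_apply]; exact hinv _ ih
    have := h12 12
    rwa [← LinearEquiv.mul_apply, ← pow_succ, hpow] at this
  -- the nonzero members of `W` with a given value
  let S : ZMod 3 → Type := fun c => {w : V // w ∈ W ∧ w ≠ 0 ∧ Q w = c}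
  have h26 : ∀ c, 26 ∣ Fintype.card (S c) := by
    intro c
    have hiff : ∀ w : V, (w ∈ W ∧ w ≠ 0 ∧ Q w = c) ↔ (f w ∈ W ∧ f w ≠ 0 ∧ Q (f w) = c) := fun w => by
      rw [hf, f.map_ne_zero_iff]
      exact and_congr_left fun _ => ⟨hinv w, hback w⟩
    let σ : Equiv.Perm (S c) := f.toEquiv.subtypeEquiv hiff
    let ν : Equiv.Perm (S c) := (Equiv.neg V).subtypeEquiv fun w => by
      simp only [Equiv.neg_apply, neg_mem_iff, neg_ne_zero, QuadraticMap.map_neg]
    have hσn : ∀ (n : ℕ) (x : S c), ((σ ^ n) x).1 = (f ^ n) x.1 := fun n x => by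
      induction n with
      | zero => rfl
      | succ n ih => rw [pow_succ', pow_succ', Equiv.Perm.mul_apply, LinearEquiv.mul_apply, ← ih]; rfl
    have h13' : 13 ∣ Fintype.card (S c) := dvd_card_of_free (by norm_num) σ
      (Equiv.ext fun x => Subtype.ext (by rw [hσn, hpow]; rfl))
      fun x e => x.2.2.1 (hfix _ x.2.1 (congrArg Subtype.val e))
    have h2' : 2 ∣ Fintype.card (S c) := dvd_card_of_free Nat.prime_two ν
      (Equiv.ext fun x => Subtype.ext (by rw [pow_two]; exact neg_neg x.1))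
      fun x e => x.2.2.1 (by
        have e' : -x.1 = x.1 := congrArg Subtype.val e
        funext i
        have := congrFun e' i
        simp only [Pi.neg_apply] at this
        show x.1 i = 0
        exact neg_self_three _ this)
    exact Nat.Coprime.mul_dvd_of_dvd_of_dvd (by norm_num) h2' h13'
  set k := finrank (ZMod 3) W with hk
  have hk5 : k ≤ 5 := by
    have := Submodule.finrank_le W
    rwa [Module.finrank_fin_fun] at this
  have hcard : Nat.card W = 3 ^ k := by
    rw [Nat.card_eq_fintype_card, card_eq_pow_finrank (K := ZMod 3), ZMod.card]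
  have hsum : ∑ c : ZMod 3, Fintype.card (S c) + 1 = 3 ^ k := by
    rw [← hcard, Nat.card_eq_fintype_card]
    have h1 : Fintype.card {w : W // w ≠ 0} + 1 = Fintype.card W := by
      rw [Fintype.card_subtype_compl, Fintype.card_subtype_eq]
      have := Fintype.card_pos (α := W)
      omega
    refine (congrArg (· + 1) ?_).trans h1
    refine (Fintype.card_sigma (α := S)).symm.trans ?_
    exact Fintype.card_congr
      { toFun := fun z => ⟨⟨z.2.1, z.2.2.1⟩, fun e => z.2.2.2.1 (congrArg Subtype.val e)⟩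
        invFun := fun w => ⟨Q w.1.1, w.1.1, w.1.2, fun e => w.2 (Subtype.ext e), rfl⟩
        left_inv := by rintro ⟨c, w, h1, h2, h3⟩; subst h3; rfl
        right_inv := fun w => rfl }
  rw [show (Finset.univ : Finset (ZMod 3)) = {0, 1, 2} by decide, Finset.sum_insert (by decide),
    Finset.sum_insert (by decide), Finset.sum_singleton] at hsum
  obtain ⟨a0, ha0⟩ := h26 0
  obtain ⟨a1, ha1⟩ := h26 1
  obtain ⟨a2, ha2⟩ := h26 2
  have hk03 : k = 0 ∨ k = 3 := by interval_cases k <;> omega
  rcases hk03 with h0 | h3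
  · refine LinearEquiv.ext fun v => ?_
    have h := (hmem (f v - v)).2 ⟨v, rfl⟩
    rw [Submodule.finrank_eq_zero.1 (hk ▸ h0 : finrank (ZMod 3) W = 0), Submodule.mem_bot,
      sub_eq_zero] at h
    exact h
  exfalso
  rw [h3] at hsum hcard
  obtain ⟨c, hc⟩ : ∃ c, ∀ w ∈ W, w ≠ 0 → Q w = c := by
    have hex : ∀ c, Fintype.card (S c) = 0 → ∀ w ∈ W, w ≠ 0 → Q w ≠ c := fun c h w hw hne e =>
      (Fintype.card_eq_zero_iff.1 h).elim ⟨w, hw, hne, e⟩
    have htri : ∀ z : ZMod 3, z = 0 ∨ z = 1 ∨ z = 2 := by decide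
    rcases (show (a0 = 1 ∧ a1 = 0 ∧ a2 = 0) ∨ (a0 = 0 ∧ a1 = 1 ∧ a2 = 0) ∨
        (a0 = 0 ∧ a1 = 0 ∧ a2 = 1) by omega) with ⟨-, e1, e2⟩ | ⟨e1, -, e2⟩ | ⟨e1, e2, -⟩
    · refine ⟨0, fun w hw hne => ?_⟩
      rcases htri (Q w) with h | h | h
      · exact h
      · exact absurd h (hex 1 (by rw [ha1, e1]) w hw hne)
      · exact absurd h (hex 2 (by rw [ha2, e2]) w hw hne)
    · refine ⟨1, fun w hw hne => ?_⟩
      rcases htri (Q w) with h | h | h
      · exact absurd h (hex 0 (by rw [ha0, e1]) w hw hne)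
      · exact h
      · exact absurd h (hex 2 (by rw [ha2, e2]) w hw hne)
    · refine ⟨2, fun w hw hne => ?_⟩
      rcases htri (Q w) with h | h | h
      · exact absurd h (hex 0 (by rw [ha0, e1]) w hw hne)
      · exact absurd h (hex 1 (by rw [ha1, e2]) w hw hne)
      · exact h
  -- the parallelogram law makes the value zero
  have hc0 : c = 0 := by
    have hW27 : Fintype.card W = 27 := by rw [← Nat.card_eq_fintype_card, hcard]; norm_num
    obtain ⟨u, hu⟩ : ∃ u : W, u ≠ 0 :=
      Fintype.exists_ne_of_one_lt_card (by rw [hW27]; norm_num) 0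
    obtain ⟨w, hw⟩ : ∃ w : W, w ∉ ({0, u, -u} : Finset W) :=
      not_forall.1 fun hall => (fun e : ({0, u, -u} : Finset W) = Finset.univ => by
        have h1 : ({0, u, -u} : Finset W).card ≤ 3 := Finset.card_le_three
        rw [e, Finset.card_univ, hW27] at h1
        omega) (Finset.eq_univ_of_forall hall)
    simp only [Finset.mem_insert, Finset.mem_singleton, not_or] at hw
    have e1 : (u : V) + w ≠ 0 := fun e => hw.2.2 (Subtype.ext (eq_neg_of_add_eq_zero_right e))
    have e2 : (u : V) + -(w : V) ≠ 0 := fun e =>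
      hw.2.1 (Subtype.ext (by rw [← sub_eq_add_neg, sub_eq_zero] at e; exact e.symm))
    have h1 := QuadraticMap.map_add Q (u : V) w
    have h2 := QuadraticMap.map_add Q (u : V) (-(w : V))
    rw [polar_neg_right, QuadraticMap.map_neg] at h2
    rw [hc _ (W.add_mem u.2 w.2) e1, hc _ u.2 (Subtype.coe_ne_coe.2 hu |> fun h => by simpa using h),
      hc _ w.2 (fun e => hw.1 (Subtype.ext e))] at h1
    rw [hc _ (W.add_mem u.2 (W.neg_mem w.2)) e2, hc _ u.2 (by simpa using hu),
      hc _ w.2 (fun e => hw.1 (Subtype.ext e))] at h2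
    exact parallelogram_three _ _ h1 h2
  have hQ0 : ∀ w ∈ W, Q w = 0 := fun w hw => by
    by_cases h : w = 0
    · rw [h, QuadraticMap.map_zero]
    · rw [hc w hw h, hc0]
  set B : LinearMap.BilinForm (ZMod 3) V := polarBilin Q
  have hle : W ≤ B.orthogonal W := fun w hw u hu => by
    show polar Q u w = 0
    rw [polar, hQ0 _ (W.add_mem hu hw), hQ0 u hu, hQ0 w hw, sub_zero, sub_zero]
  have h1 := Submodule.finrank_mono hle
  rw [LinearMap.BilinForm.finrank_orthogonal hQ, Module.finrank_fin_fun, ← hk, h3] at h1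
  omega

/-- The isometry group of a five-dimensional space has order prime to 13. -/
theorem not_dvd_card_isometry (Q : QuadraticForm (ZMod 3) V) (hQ : (polarBilin Q).Nondegenerate) :
    ¬ 13 ∣ Nat.card ↥(Cfsg.isometryGroup (ZMod 3) ⇑Q) := by
  intro h
  haveI : Fact (Nat.Prime 13) := ⟨by norm_num⟩
  obtain ⟨g, hg⟩ := exists_prime_orderOf_dvd_card' 13 h
  have h1 := no_thirteen Q hQ (CfsgLib.Orth.toOrth Q (fun _ => rfl) g).1
    (CfsgLib.Orth.toOrth Q (fun _ => rfl) g).2 (by
      rw [← SubmonoidClass.coe_pow, ← map_pow, ← hg, pow_orderOf_eq_one, map_one]; rfl)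
  have h2 : g = 1 := (MulEquiv.map_eq_one_iff (CfsgLib.Orth.toOrth Q fun _ => rfl)).1
    (Subtype.ext h1)
  rw [h2, orderOf_one] at hg
  exact absurd hg (by norm_num)

end CfsgLib.ThreeTransp.TypeTwentyFour.Locals
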