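import Cfsg.Agent.Lib.ThreeTransp.TypeTwentyFour.Locals.ThirteenSet
import Cfsg.Agent.Lib.ThreeTransp.TypeTwentyFour.ThreeA.Statement

/-!
# The normalizer of a subgroup of order 13
-/

set_option autoImplicit false
set_option linter.unusedSectionVars false
set_option linter.style.haveILetI false

namespace CfsgLib.ThreeTransp.TypeTwentyFour.Locals.Thirteen

open CfsgLib.Sporadic FischerTransitivity Indep
open Cfsg.Spor (Fi23)

variable {G : Type*} [Group G] [Finite G] {D : Set G}

/-- Conjugating one member onto a commuting one inside the normalizer. -/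
theorem exists_swap (T : Data D) {ε : G →* ℤˣ} (hε : ∀ s ∈ D, ε s = -1) {B : Subgroup G}
    (hB : Nat.card B = 13) {d s : G} (hd : d ∈ fixedSet D B) (hs : s ∈ fixedSet D B) :
    ∃ n ∈ Subgroup.normalizer (B : Set G), n * d * n⁻¹ = s := by
  obtain ⟨g, hg⟩ := T.good.cls d hd.1 s hs.1
  obtain ⟨p, C⟩ := exists_cover T hε hs.1
  set B' := B.map (MulAut.conj g).toMonoidHom with hB'
  have hB'c : Nat.card B' = 13 := by
    rw [hB', Subgroup.card_map_of_injective (MulAut.conj g).injective, hB]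
  have hodd : Odd 13 := by decide
  have hX : ∀ x ∈ B, Commute x s ∧ ε x = 1 := fun x hx =>
    ⟨(mem_fixedSet.1 hs).2 x hx, even_of_odd ε (hB ▸ hodd) hx⟩
  have hX' : ∀ x ∈ B', Commute x s ∧ ε x = 1 := by
    intro x hx
    refine ⟨?_, even_of_odd ε (hB'c ▸ hodd) hx⟩
    rw [hB', Subgroup.mem_map] at hx
    obtain ⟨b, hb, rfl⟩ := hx
    rw [← hg]
    exact (Commute.conj_iff g).2 ((mem_fixedSet.1 hd).2 b hb)
  obtain ⟨q, hq⟩ := (FiTransfer.Norm23.order_thirteen
    ⟨MulEquiv.refl Fi23, Set.image_id _⟩).1 _ _ ((C.card_down hX').trans hB'c)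
    ((C.card_down hX).trans hB)
  obtain ⟨r, hr, her, rfl⟩ := C.even_lift q
  have hmap : B'.map (MulAut.conj r).toMonoidHom = B := by
    refine Subgroup.eq_of_le_of_card_ge ?_ ?_
    · rintro _ ⟨x, hx, rfl⟩
      obtain ⟨hxs, hxe⟩ := hX' x hx
      refine (C.mem_down_iff hX ((hr.mul_left hxs).mul_left hr.inv_left) ?_).1 ?_
      · rw [map_mul, map_mul, map_inv, hxe, mul_one, mul_inv_cancel]
      · rw [C.conj hr hxs, ← hq]
        exact ⟨p x, (C.mem_down_iff hX' hxs hxe).2 hx, rfl⟩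
    · rw [Subgroup.card_map_of_injective (MulAut.conj r).injective, hB'c, hB]
  refine ⟨r * g, Subgroup.mem_normalizer_iff.2 fun x => ?_, ?_⟩
  · have hm : B.map (MulAut.conj (r * g)).toMonoidHom = B := by
      conv_rhs => rw [← hmap, hB', Subgroup.map_map]
      congr 1
      ext y
      simp [mul_assoc]
    conv_rhs => rw [← hm]
    simp [Subgroup.mem_map, MulAut.conj_apply, mul_assoc]
  · calc r * g * d * (r * g)⁻¹ = r * (g * d * g⁻¹) * r⁻¹ := by group
      _ = s := by rw [hg, hr.eq, mul_inv_cancel_right]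

variable {a d s t : G}

/-- The closure of two commuting non-commuting pairs. -/
theorem pair_facts (T : Data D) (hprim : Cfsg.IsPrimitiveUnderConj D)
    (h24 : Cfsg.IsOfTypeM24 G D) (ha : a ∈ D) (hd : d ∈ D) (hs : s ∈ D) (ht : t ∈ D)
    (had : ¬ Commute a d) (hst : ¬ Commute s t) (has : Commute a s) (hat : Commute a t)
    (hds : Commute d s) (hdt : Commute d t) :
    Nat.card ↥(Subgroup.closure ({a, d, s, t} : Set G)) = 36 ∧
      ∀ z ∈ Subgroup.closure ({a, d, s, t} : Set G),
        z ∈ Subgroup.centralizer ({a, d, s, t} : Set G) → z = 1 := by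
  set S := Subgroup.closure ({a, d} : Set G)
  set S' := Subgroup.closure ({s, t} : Set G)
  obtain ⟨hbot, hcom, -, ⟨e⟩, -⟩ := ThreeA.three_a_normalizer T ha hd had hprim h24 _ S _ rfl rfl rfl
  obtain ⟨hbot', hcom', -, ⟨e'⟩, -⟩ :=
    ThreeA.three_a_normalizer T hs ht hst hprim h24 _ S' _ rfl rfl rfl
  have hle : S' ≤ Subgroup.centralizer ({a, d} : Set G) := by
    refine (Subgroup.closure_le _).2 fun z hz => Subgroup.mem_centralizer_iff.2 fun w hw => ?_
    rcases hz with rfl | rfl <;> rcases hw with rfl | rfl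
    exacts [has.eq, hds.eq, hat.eq, hdt.eq]
  have hle' : S ≤ Subgroup.centralizer ({s, t} : Set G) := by
    refine (Subgroup.closure_le _).2 fun z hz => Subgroup.mem_centralizer_iff.2 fun w hw => ?_
    rcases hz with rfl | rfl <;> rcases hw with rfl | rfl
    exacts [has.symm.eq, hat.symm.eq, hds.symm.eq, hdt.symm.eq]
  have hc : ∀ x ∈ S, ∀ y ∈ S', x * y = y * x := fun x hx y hy => hcom x hx y (hle hy)
  have hinf : S ⊓ S' = ⊥ := eq_bot_iff.2 fun x hx => hbot ▸ ⟨hx.1, hle hx.2⟩
  have hsup : Subgroup.closure ({a, d, s, t} : Set G) = S ⊔ S' := by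
    rw [← Subgroup.closure_union]
    congr 1
    ext z
    simp only [Set.mem_insert_iff, Set.mem_singleton_iff, Set.mem_union]
    tauto
  constructor
  · rw [hsup, card_sup_comm hc hinf, Nat.card_congr e.toEquiv, Nat.card_congr e'.toEquiv,
      Nat.card_perm, Nat.card_fin]
    decide
  · intro z hz hzc
    rw [hsup] at hz
    obtain ⟨u, hu, v, hv, rfl⟩ := mem_sup_comm hc hz
    have h1 : u * v ∈ Subgroup.centralizer ({a, d} : Set G) :=
      Subgroup.centralizer_le (by intro z hz; simp at hz ⊢; tauto) hzc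
    have h2 : u * v ∈ Subgroup.centralizer ({s, t} : Set G) :=
      Subgroup.centralizer_le (by intro z hz; simp at hz ⊢; tauto) hzc
    have hu1 : u ∈ S ⊓ Subgroup.centralizer ({a, d} : Set G) :=
      ⟨hu, by simpa using mul_mem h1 (inv_mem (hle hv))⟩
    have hv1 : v ∈ S' ⊓ Subgroup.centralizer ({s, t} : Set G) :=
      ⟨hv, by simpa using mul_mem (inv_mem (hle' hu)) h2⟩
    rw [hbot, Subgroup.mem_bot] at hu1
    rw [hbot', Subgroup.mem_bot] at hv1
    rw [hu1, hv1, one_mul]

variable {B : Subgroup G}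

set_option maxHeartbeats 1000000 in
/-- The normalizer around two commuting fixed pairs. -/
theorem normalizer_facts (T : Data D) (hprim : Cfsg.IsPrimitiveUnderConj D)
    (h24 : Cfsg.IsOfTypeM24 G D) (hB : Nat.card B = 13) (ha : a ∈ fixedSet D B)
    (hd : d ∈ fixedSet D B) (hs : s ∈ fixedSet D B) (ht : t ∈ fixedSet D B) (had : ¬ Commute a d)
    (hst : ¬ Commute s t) (has : Commute a s) (hat : Commute a t) (hds : Commute d s)
    (hdt : Commute d t) (U K : Subgroup G) (hU : U = Subgroup.closure ({a, d, s, t} : Set G))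
    (hK : K = Subgroup.centralizer (U : Set G)) :
    Subgroup.normalizer (B : Set G) ≤ Subgroup.normalizer (K : Set G) ∧
      Nat.card ↥(K ⊓ Subgroup.normalizer (B : Set G)) = 78 ∧
      K ⊓ Subgroup.centralizer (B : Set G) = B ∧
      (((K ⊓ Subgroup.normalizer (B : Set G)) ⊔ U).subgroupOf
        (Subgroup.normalizer (B : Set G))).index = 2 := by
  classical
  have hG := T.good.grp
  obtain ⟨ε, hε⟩ := T.exists_eps
  set W := fixedSet D B with hWdef
  have hW : W = {a, d, cj a d, s, t, cj s t} :=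
    fixedSet_eq T hprim h24 hε hB ha hd hs ht had hst has hat hds hdt
  have hmemU : ∀ x ∈ ({a, d, s, t} : Set G), x ∈ U := fun x hx => hU ▸ Subgroup.subset_closure hx
  have hWU : ∀ x ∈ W, x ∈ U := by
    rw [hW]
    rintro x (rfl | rfl | rfl | rfl | rfl | rfl)
    · exact hmemU _ (by simp)
    · exact hmemU _ (by simp)
    · exact mul_mem (mul_mem (hmemU a (by simp)) (hmemU d (by simp))) (hmemU a (by simp))
    · exact hmemU _ (by simp)
    · exact hmemU _ (by simp)
    · exact mul_mem (mul_mem (hmemU s (by simp)) (hmemU t (by simp))) (hmemU s (by simp))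
  have hUW : U = Subgroup.closure W := le_antisymm
    (hU ▸ (Subgroup.closure_le _).2 (by
      rintro x (rfl | rfl | rfl | rfl) <;> exact Subgroup.subset_closure (by assumption)))
    ((Subgroup.closure_le _).2 hWU)
  have hK4 : K = Subgroup.centralizer ({a, d, s, t} : Set G) := by
    rw [hK, hU, Subgroup.centralizer_closure]
  have hKW : ∀ k, k ∈ K ↔ ∀ x ∈ W, Commute x k := fun k => by
    rw [hK, hUW, Subgroup.centralizer_closure, Subgroup.mem_centralizer_iff]
    rfl
  have hKmem : ∀ x, Commute x a → Commute x d → Commute x s → Commute x t → x ∈ K := by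
    intro x h1 h2 h3 h4
    rw [hK4, Subgroup.mem_centralizer_iff]
    rintro z (rfl | rfl | rfl | rfl)
    exacts [h1.symm.eq, h2.symm.eq, h3.symm.eq, h4.symm.eq]
  have hKof : ∀ x ∈ K, Commute x a ∧ Commute x d ∧ Commute x s ∧ Commute x t := by
    intro x hx
    rw [hKW] at hx
    exact ⟨(hx a ha).symm, (hx d hd).symm, (hx s hs).symm, (hx t ht).symm⟩
  obtain ⟨p, C, A⟩ := exists_at T hε hB hd
  have hsN : s ∈ Nb D d := ⟨hs.1, fun e => hst (e ▸ hdt), hds⟩
  have htN : t ∈ Nb D d := ⟨ht.1, fun e => hst (e ▸ hds).symm, hdt⟩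
  obtain ⟨F, hF, hXF, hFC, hbot, hcomm, hsup, ⟨ψ⟩⟩ := A.shape
  set S := FiTransfer.Norm23.centClosure FiTransfer23.classTr (down C B) with hSdef
  have hS0 : ∀ σ ∈ S, Commute σ (p s) → Commute σ (p t) → σ = 1 := by
    intro σ hσ h1 h2
    have hcen : ∀ u ∈ S, Commute σ u := by
      intro u hu
      refine Subgroup.mem_centralizer_singleton_iff.1
        ((Subgroup.closure_le (Subgroup.centralizer ({σ} : Set Fi23))).2 (fun c hc => ?_) hu) |>.symm
      obtain ⟨x, hx, hxB, rfl⟩ := (C.class_iff A.fix).1 hc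
      have hxW : x ∈ fixedSet D B ∩ Nb D d := ⟨⟨hx.1, hxB⟩, hx⟩
      rw [triangle_eq T hprim h24 hε hB hd (u := s) (v := t) ⟨hs, hsN⟩ ⟨ht, htN⟩ hst] at hxW
      refine Subgroup.mem_centralizer_singleton_iff.2 (Commute.symm ?_).eq
      rcases hxW with rfl | rfl | rfl
      · exact h1
      · exact h2
      · show Commute σ (p (s * t * s))
        rw [C.mul _ _ ((C.nb_comm hsN).mul_left (C.nb_comm htN)) (C.nb_comm hsN),
          C.mul _ _ (C.nb_comm hsN) (C.nb_comm htN)]
        exact (h1.mul_right h2).mul_right h1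
    have hz : ∀ τ : Equiv.Perm (Fin 3), ψ ⟨σ, hσ⟩ * τ = τ * ψ ⟨σ, hσ⟩ := fun τ => by
      have := congrArg ψ (Subtype.ext (hcen _ (ψ.symm τ).2).eq :
        (⟨σ, hσ⟩ : ↥S) * ψ.symm τ = ψ.symm τ * ⟨σ, hσ⟩)
      simpa using this
    have h3 : ∀ π : Equiv.Perm (Fin 3), (∀ τ, π * τ = τ * π) → π = 1 := by decide
    exact congrArg Subtype.val ((MulEquiv.map_eq_one_iff ψ).1 (h3 _ hz))
  have hpsS := A.mem_closure hsN hs
  have hptS := A.mem_closure htN ht
  have hNF : ∀ q ∈ Subgroup.normalizer ((down C B : Subgroup Fi23) : Set Fi23),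
      Commute q (p s) → Commute q (p t) → q ∈ F := by
    intro q hq h1 h2
    rw [← hsup] at hq
    obtain ⟨f, hf, σ, hσ, rfl⟩ := mem_sup_comm hcomm hq
    have hfs : Commute f (p s) := hcomm f hf _ hpsS
    have hft : Commute f (p t) := hcomm f hf _ hptS
    have hσ1 : Commute σ (p s) := by
      have := hfs.inv_left.mul_left h1
      rwa [inv_mul_cancel_left] at this
    have hσ2 : Commute σ (p t) := by
      have := hft.inv_left.mul_left h2
      rwa [inv_mul_cancel_left] at this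
    rw [hS0 σ hσ hσ1 hσ2, mul_one]
    exact hf
  set M := K ⊓ Subgroup.normalizer (B : Set G) with hM
  have hMd : ∀ x ∈ M, Commute x a ∧ Commute x d ∧ Commute x s ∧ Commute x t := fun x hx =>
    hKof x hx.1
  have hMF : ∀ x ∈ M, p x ∈ F := fun x hx => by
    obtain ⟨-, hxd, hxs, hxt⟩ := hMd x hx
    exact hNF _ ((C.normalizer_iff A.fix hxd).2 hx.2)
      ((C.commute_iff hxd (C.nb_comm hsN)).2 hxs) ((C.commute_iff hxd (C.nb_comm htN)).2 hxt)
  have hMcard : Nat.card ↥M = 78 := by
    rw [← hF]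
    refine Nat.card_congr (Equiv.ofBijective (fun x : ↥M => (⟨p x.1, hMF _ x.2⟩ : ↥F)) ⟨?_, ?_⟩)
    · intro x y e
      exact Subtype.ext (lift_unique C had (hMd _ x.2).2.1 (hMd _ x.2).1 (hMd _ y.2).2.1
        (hMd _ y.2).1 (congrArg Subtype.val e))
    · rintro ⟨q, hq⟩
      have hqN : q ∈ Subgroup.normalizer ((down C B : Subgroup Fi23) : Set Fi23) :=
        hsup ▸ Subgroup.mem_sup_left hq
      obtain ⟨x, hxN, hxd, hxa, rfl⟩ := A.lift T hprim h24 hB ha had hqN
      exact ⟨⟨x, hKmem x hxa hxd ((C.commute_iff hxd (C.nb_comm hsN)).1 (hcomm _ hq _ hpsS))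
        ((C.commute_iff hxd (C.nb_comm htN)).1 (hcomm _ hq _ hptS)), hxN⟩, rfl⟩
  have hMC : K ⊓ Subgroup.centralizer (B : Set G) = B := by
    apply le_antisymm
    · rintro x ⟨hxK, hxC⟩
      obtain ⟨hxa, hxd, -, -⟩ := hKof x hxK
      have hq : p x ∈ F ⊓ Subgroup.centralizer ((down C B : Subgroup Fi23) : Set Fi23) :=
        ⟨hMF x ⟨hxK, Subgroup.centralizer_le_normalizer _ hxC⟩,
          (C.centralizer_iff A.fix hxd).2 hxC⟩
      rw [hFC, C.mem_down fun b hb => (A.fix b hb).1] at hq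
      obtain ⟨b, hb, hpb⟩ := hq
      rwa [lift_unique C had hxd hxa (A.fix b hb).1 ((mem_fixedSet.1 ha).2 b hb) hpb.symm]
    · intro b hb
      refine ⟨(hKW b).2 fun x hx => ((mem_fixedSet.1 hx).2 b hb).symm, ?_⟩
      refine Subgroup.mem_centralizer_iff.2 fun c hc => ?_
      haveI : Fact (Nat.Prime 13) := ⟨by norm_num⟩
      haveI : IsCyclic ↥B := isCyclic_of_prime_card hB
      exact congrArg Subtype.val
        ((IsCyclic.isMulCommutative (α := ↥B)).is_comm.comm (⟨c, hc⟩ : ↥B) ⟨b, hb⟩)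
  have hNK : Subgroup.normalizer (B : Set G) ≤ Subgroup.normalizer (K : Set G) := by
    intro n hn
    refine Subgroup.mem_normalizer_iff.2 fun k => ?_
    simp only [hKW]
    constructor
    · intro h x hx
      have h1 := fixedSet_conj hG (inv_mem hn) hx
      rw [inv_inv] at h1
      have h2 := (Commute.conj_iff n).2 (h _ h1)
      rwa [show n * (n⁻¹ * x * n) * n⁻¹ = x by group] at h2
    · intro h x hx
      exact (Commute.conj_iff n).1 (h _ (fixedSet_conj hG hn hx))
  refine ⟨hNK, hMcard, hMC, ?_⟩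
  obtain ⟨hUc, hUz⟩ := pair_facts T hprim h24 ha.1 hd.1 hs.1 ht.1 had hst has hat hds hdt
  rw [← hU] at hUc hUz
  have hMU : Nat.card ↥(M ⊔ U) = 2808 := by
    have hcom : ∀ x ∈ M, ∀ y ∈ U, x * y = y * x := fun x hx y hy =>
      (Subgroup.mem_centralizer_iff.1 (hK ▸ hx.1 : x ∈ Subgroup.centralizer (U : Set G)) y hy).symm
    have hbot' : M ⊓ U = ⊥ := eq_bot_iff.2 fun z hz => Subgroup.mem_bot.2
      (hUz z hz.2 (hK4 ▸ hz.1.1))
    rw [card_sup_comm hcom hbot', hMcard, hUc]
  have hMUN : M ⊔ U ≤ Subgroup.normalizer (B : Set G) := sup_le inf_le_right (by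
    rw [hUW]
    exact (Subgroup.closure_le _).2 fun x hx => Subgroup.centralizer_le_normalizer _ hx.2)
  set N := Subgroup.normalizer (B : Set G) with hNdef
  set N1 := N ⊓ Subgroup.centralizer ({d} : Set G) with hN1
  have hN1c : Nat.card ↥N1 = 936 := by
    set E := up C (Subgroup.normalizer ((down C B : Subgroup Fi23) : Set Fi23)) with hE
    have hEc : Nat.card ↥E = 468 := by rw [hE, C.card_up, A.card_normalizer]
    have hdB : d ∈ Subgroup.centralizer (B : Set G) := hd.2
    have hEd : ∀ x ∈ E, ∀ y ∈ Subgroup.zpowers d, x * y = y * x := fun x hx y hy => by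
      obtain ⟨i, rfl⟩ := Subgroup.mem_zpowers_iff.1 hy
      exact ((C.mem_up.1 hx).1.zpow_right i).eq
    have hEbot : E ⊓ Subgroup.zpowers d = ⊥ := eq_bot_iff.2 fun x hx => by
      obtain ⟨i, rfl⟩ := Subgroup.mem_zpowers_iff.1 hx.2
      have he := (C.mem_up.1 hx.1).2.1
      rw [map_zpow, C.eps_self] at he
      rcases Int.even_or_odd' i with ⟨j, rfl | rfl⟩
      · rw [Subgroup.mem_bot, zpow_mul, zpow_two, sq hG hd.1,
          one_zpow]
      · rw [zpow_add, zpow_mul, zpow_one, show (-1 : ℤˣ) ^ (2 : ℤ) = 1 from rfl, one_zpow,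
          one_mul] at he
        exact absurd he (by decide)
    have hN1E : N1 = E ⊔ Subgroup.zpowers d := by
      apply le_antisymm
      · rintro x ⟨hxN, hxd⟩
        have hxd' := Subgroup.mem_centralizer_singleton_iff.1 hxd
        obtain ⟨x₀, h0, he0, hp0, hcase⟩ := C.decomp hxd'
        have hx0 : x₀ ∈ E := C.mem_up.2 ⟨h0, he0, hp0.symm ▸ (C.normalizer_iff A.fix hxd').2 hxN⟩
        rcases hcase with rfl | rfl
        · exact Subgroup.mem_sup_left hx0
        · exact mul_mem (Subgroup.mem_sup_left hx0)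
            (Subgroup.mem_sup_right (Subgroup.mem_zpowers d))
      · refine sup_le (fun x hx => ?_) (Subgroup.zpowers_le.2 ?_)
        · obtain ⟨h1, -, h3⟩ := C.mem_up.1 hx
          exact ⟨(C.normalizer_iff A.fix h1).1 h3, Subgroup.mem_centralizer_singleton_iff.2 h1.eq⟩
        · exact ⟨Subgroup.centralizer_le_normalizer _ hdB,
            Subgroup.mem_centralizer_singleton_iff.2 rfl⟩
    rw [hN1E, card_sup_comm hEd hEbot, hEc, Nat.card_zpowers, hG.1.1 d hd.1]
  have horb : Nat.card ↥N = W.ncard * Nat.card ↥N1 := by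
    refine card_orbit_mul N N1 inf_le_left (fun g => g * d * g⁻¹) W
      (fun g hg => fixedSet_conj hG hg hd) (fun z hz => ?_) fun g hg k hk => ?_
    · exact exists_swap T hε hB hd hz
    · rw [conj_eq_iff, Subgroup.mem_inf, Subgroup.mem_centralizer_singleton_iff]
      exact ⟨fun e => ⟨mul_mem (inv_mem hg) hk, e⟩, fun e => e.2⟩
  have hW6 : W.ncard = 6 := by
    have hA := triangle_eq T hprim h24 hε hB hd (u := s) (v := t) ⟨hs, hsN⟩ ⟨ht, htN⟩ hst
    have hB' := triangle_eq T hprim h24 hε hB hs (u := a) (v := d)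
      ⟨ha, ha.1, fun e => hst (e ▸ hat), has.symm⟩ ⟨hd, hd.1, Ne.symm hsN.2.1, hds.symm⟩ had
    have hsplit : W = (W ∩ Nb D s) ∪ (W ∩ Nb D d) := by
      refine Set.Subset.antisymm ?_ (Set.union_subset Set.inter_subset_left Set.inter_subset_left)
      intro x hx
      rw [hWdef] at hx ⊢
      rw [hA, hB']
      rw [← hWdef, hW] at hx
      simp only [Set.mem_insert_iff, Set.mem_singleton_iff, Set.mem_union] at hx ⊢
      tauto
    have hdisj : Disjoint (W ∩ Nb D s) (W ∩ Nb D d) := by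
      rw [Set.disjoint_left]
      intro x hx hx'
      exact (facts T hprim h24 hε hB hs).2.1 x hx d ⟨hd, hd.1, Ne.symm hsN.2.1, hds.symm⟩
        hx'.2.2.1 hx'.2.2.2.symm
    have h3 : ∀ u v : G, u ∈ D → v ∈ D → ¬ Commute u v → ({u, v, cj u v} : Set G).ncard = 3 := by
      intro u v hu hv huv
      refine Set.ncard_eq_three.2 ⟨u, v, cj u v, fun e => huv (e ▸ Commute.refl u), fun e => ?_,
        fun e => ?_, rfl⟩
      · refine huv ?_
        have h2 := congrArg (cj u) e
        rw [cj_cj hG hu] at h2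
        rw [show v = u * u * u from h2.symm]
        exact ((Commute.refl u).mul_right (Commute.refl u)).mul_right (Commute.refl u)
      · refine huv ?_
        have h2 : u * v * u = v := e.symm
        show u * v = v * u
        calc u * v = u * v * (u * u) := by rw [sq hG hu, mul_one]
          _ = u * v * u * u := by simp only [mul_assoc]
          _ = v * u := by rw [h2]
    rw [hsplit, Set.ncard_union_eq hdisj, hA, hB', h3 a d ha.1 hd.1 had, h3 s t hs.1 ht.1 hst]
  rw [hW6, hN1c] at horb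
  have hidx := Subgroup.card_mul_index ((M ⊔ U).subgroupOf N)
  rw [Nat.card_congr (Subgroup.subgroupOfEquivOfLe hMUN).toEquiv, hMU, horb] at hidx
  omega

/-- The statement for the order 13, given the group `G₂(3)` among the centralizers of two commuting
pairs. -/
theorem thirteen_row {Q : Type*} [Group Q] (T : Data D) (hprim : Cfsg.IsPrimitiveUnderConj D)
    (h24 : Cfsg.IsOfTypeM24 G D)
    (hG2 : ∀ a d s t : G, a ∈ D → d ∈ D → s ∈ D → t ∈ D → ¬ Commute a d → ¬ Commute s t →
      Commute a s → Commute a t → Commute d s → Commute d t →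
      13 ∣ Nat.card ↥(Subgroup.centralizer ({a, d, s, t} : Set G)) →
      Nonempty (↥(Subgroup.centralizer ({a, d, s, t} : Set G)) ≃* Q)) :
    (∀ X Y : Subgroup G, Nat.card X = 13 → Nat.card Y = 13 →
      ∃ g : G, X.map (MulAut.conj g).toMonoidHom = Y) ∧
    ∃ (a b c d : G) (U K : Subgroup G), (∀ x ∈ [a, b, c, d], x ∈ D) ∧ ¬ Commute a d ∧
      ¬ Commute b c ∧ Commute a b ∧ Commute a c ∧ Commute d b ∧ Commute d c ∧
      U = Subgroup.closure ({a, b, c, d} : Set G) ∧ K = Subgroup.centralizer (U : Set G) ∧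
      Nonempty (↥K ≃* Q) ∧ ∀ B : Subgroup G, B ≤ K → Nat.card B = 13 →
        Subgroup.normalizer ((B : Subgroup G) : Set G) ≤
          Subgroup.normalizer ((K : Subgroup G) : Set G) ∧
        Nat.card ↥(K ⊓ Subgroup.normalizer ((B : Subgroup G) : Set G)) = 78 ∧
        K ⊓ Subgroup.centralizer ((B : Subgroup G) : Set G) = B ∧
        (((K ⊓ Subgroup.normalizer ((B : Subgroup G) : Set G)) ⊔ U).subgroupOf
          (Subgroup.normalizer ((B : Subgroup G) : Set G))).index = 2 := by
  obtain ⟨ε, hε⟩ := T.exists_eps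
  refine ⟨?_, ?_⟩
  · obtain ⟨d, hd, -⟩ := T.good.two
    obtain ⟨p, C⟩ := exists_cover T hε hd
    exact conj_all T.good.grp T.good.cls C (by norm_num) (by decide)
      (T.card_set ▸ (by norm_num : ¬ 13 ∣ 306936))
      (FiTransfer.Norm23.order_thirteen ⟨MulEquiv.refl Fi23, Set.image_id _⟩).1
  haveI : Fact (Nat.Prime 13) := ⟨by norm_num⟩
  obtain ⟨x, hx⟩ := exists_prime_orderOf_dvd_card' (G := G) 13
    (by rw [T.card_group]; norm_num)
  have hB₀ : Nat.card ↥(Subgroup.zpowers x) = 13 := by rw [Nat.card_zpowers, hx]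
  obtain ⟨d, hd, hdc⟩ := exists_fixed T.good.grp (q := 13) (by norm_num)
    (T.card_set ▸ (by norm_num : ¬ 13 ∣ 306936))
    (IsPGroup.of_card (n := 1) (by rw [pow_one, hB₀]))
  obtain ⟨a, s, t, ha, hs, ht, had, hst, has, hat, hds, hdt⟩ :=
    exists_pairs T hprim h24 hε hB₀ (mem_fixedSet.2 ⟨hd, hdc⟩)
  have hset : ({a, s, t, d} : Set G) = {a, d, s, t} := by
    ext z
    simp only [Set.mem_insert_iff, Set.mem_singleton_iff]
    tauto
  refine ⟨a, s, t, d, Subgroup.closure ({a, s, t, d} : Set G),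
    Subgroup.centralizer ((Subgroup.closure ({a, s, t, d} : Set G) : Subgroup G) : Set G), ?_, had,
    hst, has, hat, hds, hdt, rfl, rfl, ?_, fun B hBK hB => ?_⟩
  · simp only [List.mem_cons, List.not_mem_nil, or_false]
    rintro z (rfl | rfl | rfl | rfl)
    exacts [ha.1, hs.1, ht.1, hd]
  · rw [hset, Subgroup.centralizer_closure]
    refine hG2 a d s t ha.1 hd hs.1 ht.1 had hst has hat hds hdt (hB₀ ▸ Subgroup.card_dvd_of_le ?_)
    intro y hy
    refine Subgroup.mem_centralizer_iff.2 ?_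
    rintro z (rfl | rfl | rfl | rfl)
    exacts [((mem_fixedSet.1 ha).2 y hy).symm.eq, (hdc y hy).symm.eq,
      ((mem_fixedSet.1 hs).2 y hy).symm.eq, ((mem_fixedSet.1 ht).2 y hy).symm.eq]
  · have hfix : ∀ z ∈ ({a, s, t, d} : Set G), z ∈ D → z ∈ fixedSet D B := fun z hz hzD =>
      mem_fixedSet.2 ⟨hzD, fun y hy =>
        (Subgroup.mem_centralizer_iff.1 (hBK hy) z (Subgroup.subset_closure hz)).symm⟩
    exact normalizer_facts T hprim h24 hB (hfix a (by simp) ha.1) (hfix d (by simp) hd)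
      (hfix s (by simp) hs.1) (hfix t (by simp) ht.1) had hst has hat hds hdt _ _
      (by rw [hset]) rfl

end CfsgLib.ThreeTransp.TypeTwentyFour.Locals.Thirteen
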