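import Cfsg.Agent.Lib.ThreeTransp.TypeTwentyFour.Locals.OrthThirteen

/-!
# Which of the two classes of commuting pairs is centralized by an element of order 13
-/

set_option autoImplicit false
set_option linter.unusedSectionVars false
set_option linter.style.haveILetI false

namespace CfsgLib.ThreeTransp.TypeTwentyFour.Locals

variable {G : Type*} [Group G] [Finite G] {D : Set G}

/-- Moving two pairs by an element fixing the first. -/
theorem conj_centralizer {a d s t b c g : G} (hg : g ∈ Subgroup.centralizer ({a, d} : Set G))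
    (h : (Subgroup.closure ({s, t} : Set G)).map (MulAut.conj g).toMonoidHom =
      Subgroup.closure ({b, c} : Set G)) :
    Nonempty (↥(Subgroup.centralizer ({a, d, s, t} : Set G)) ≃*
      ↥(Subgroup.centralizer ({a, d, b, c} : Set G))) := by
  have hsplit : ∀ x y : G, Subgroup.centralizer ({a, d, x, y} : Set G) =
      Subgroup.centralizer ({a, d} : Set G) ⊓
        Subgroup.centralizer ((Subgroup.closure ({x, y} : Set G) : Subgroup G) : Set G) := by
    intro x y
    rw [Subgroup.centralizer_closure]
    ext z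
    simp only [Subgroup.mem_inf, Subgroup.mem_centralizer_iff, Set.mem_insert_iff,
      Set.mem_singleton_iff, forall_eq_or_imp, forall_eq, and_assoc]
  refine ⟨((Subgroup.centralizer ({a, d, s, t} : Set G)).equivMapOfInjective
    (MulAut.conj g).toMonoidHom (MulAut.conj g).injective).trans (MulEquiv.subgroupCongr ?_)⟩
  have hfix : ∀ x ∈ ({a, d} : Set G), g * x * g⁻¹ = x := fun x hx => by
    rw [← Subgroup.mem_centralizer_iff.1 hg x hx, mul_inv_cancel_right]
  ext z
  rw [Subgroup.mem_map_equiv, hsplit, hsplit, Subgroup.mem_inf, Subgroup.mem_inf,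
    Subgroup.mem_centralizer_iff, Subgroup.mem_centralizer_iff, Subgroup.mem_centralizer_iff,
    Subgroup.mem_centralizer_iff, ← h]
  simp only [SetLike.mem_coe, Subgroup.mem_map, MulAut.conj_symm_apply, MulEquiv.coe_toMonoidHom,
    MulAut.conj_apply, forall_exists_index, and_imp, forall_apply_eq_imp_iff₂]
  have key : ∀ x : G, (x * (g⁻¹ * z * g) = g⁻¹ * z * g * x) ↔
      (g * x * g⁻¹ * z = z * (g * x * g⁻¹)) := fun x => by
    constructor
    · intro e
      have := congrArg (fun w => g * w * g⁻¹) e
      simpa [mul_assoc] using this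
    · intro e
      have := congrArg (fun w => g⁻¹ * w * g) e
      simpa [mul_assoc] using this
  refine and_congr ?_ (forall₂_congr fun x _ => key x)
  exact forall₂_congr fun x hx => by rw [key, hfix x hx]

/-- Given the two classes, a pair centralized by an element of order 13 is of the second. -/
theorem second_class {Q : Type*} [Group Q] {a d s t : G} (hs : s ∈ D) (ht : t ∈ D)
    (hst : ¬ Commute s t) (has : Commute a s) (hat : Commute a t) (hds : Commute d s)
    (hdt : Commute d t) (h13 : 13 ∣ Nat.card ↥(Subgroup.centralizer ({a, d, s, t} : Set G)))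
    (h : ∃ b₁ c₁ b₂ c₂ : G,
      (∀ b c : G, b ∈ D → c ∈ D → Commute a b → Commute d b → Commute a c → Commute d c →
        ¬ Commute b c → ∃ g ∈ Subgroup.centralizer ({a, d} : Set G),
          (Subgroup.closure ({b, c} : Set G)).map (MulAut.conj g).toMonoidHom =
              Subgroup.closure ({b₁, c₁} : Set G) ∨
            (Subgroup.closure ({b, c} : Set G)).map (MulAut.conj g).toMonoidHom =
              Subgroup.closure ({b₂, c₂} : Set G)) ∧
      (∃ E : Subgroup G, E ≤ Subgroup.centralizer ({a, d, b₁, c₁} : Set G) ∧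
        Nat.card E = 3 ^ 5 ∧
        ∃ _ : (E.subgroupOf (Subgroup.centralizer ({a, d, b₁, c₁} : Set G))).Normal,
          Cfsg.IsReflectionGroupModThree (↥(Subgroup.centralizer ({a, d, b₁, c₁} : Set G)) ⧸
            E.subgroupOf (Subgroup.centralizer ({a, d, b₁, c₁} : Set G))) 5 1 1) ∧
      Nonempty (↥(Subgroup.centralizer ({a, d, b₂, c₂} : Set G)) ≃* Q)) :
    Nonempty (↥(Subgroup.centralizer ({a, d, s, t} : Set G)) ≃* Q) := by
  obtain ⟨b₁, c₁, b₂, c₂, hcls, ⟨E, hE, hEc, hN, Qf, hQf, -, ⟨e⟩⟩, ⟨e₂⟩⟩ := h
  obtain ⟨g, hg, h1 | h2⟩ := hcls s t hs ht has hds hat hdt hst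
  · exfalso
    obtain ⟨ψ⟩ := conj_centralizer hg h1
    rw [Nat.card_congr ψ.toEquiv, Subgroup.card_eq_card_quotient_mul_card_subgroup
      (E.subgroupOf (Subgroup.centralizer ({a, d, b₁, c₁} : Set G))),
      Nat.card_congr (Subgroup.subgroupOfEquivOfLe hE).toEquiv, hEc] at h13
    rcases (Nat.Prime.dvd_mul (by norm_num : Nat.Prime 13)).1 h13 with h | h
    · rw [Nat.card_congr e.toEquiv] at h
      exact not_dvd_card_isometry Qf hQf (h.trans (Subgroup.card_subgroup_dvd_card _))
    · exact absurd ((by norm_num : Nat.Prime 13).dvd_of_dvd_pow h) (by norm_num)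
  · obtain ⟨ψ⟩ := conj_centralizer hg h2
    exact ⟨ψ.trans e₂⟩

end CfsgLib.ThreeTransp.TypeTwentyFour.Locals
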